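import Mathlib
import Groth.Prelude.Def_Rees
import Groth.Prelude.Def_BlowUp2
import Groth.Agent.ProjLib.AffineBlowup

/-!
# Degree zero part of a localised Rees algebra is the affine blow-up algebra
-/

set_option autoImplicit false
set_option backward.isDefEq.respectTransparency.types false

universe u

open Polynomial HomogeneousLocalization

namespace Groth.Agent.BlowRees8

variable {A R : Type u} [CommRing A] [CommRing R] (I : Ideal A) (φ : A ≃+* R)

/-- `xX` as an element of the Rees algebra. -/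
noncomputable def deg1 (x : I) : reesAlgebra I :=
  ⟨monomial 1 (x : A), reesAlgebra.monomial_mem.2 (by rw [pow_one]; exact x.2)⟩

theorem deg1_mem (x : I) : deg1 I x ∈ Rees.deg (reesAlgebra I) 1 := fun m hm => by
  show (monomial 1 (x : A)).coeff m = 0
  rw [coeff_monomial]
  exact if_neg fun h => hm h.symm

theorem eq_monomial {n : ℕ} (p : reesAlgebra I) (hp : p ∈ Rees.deg (reesAlgebra I) n) :
    (p : A[X]) = monomial n ((p : A[X]).coeff n) := by
  ext m
  rw [coeff_monomial]
  split_ifs with h
  · rw [h]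
  · exact (Rees.mem_deg_iff _ _ _).1 hp m (Ne.symm h)

variable (a : I)

local notation "K" => Localization.Away (φ (a : A))

/-- Substituting `1/a` for `X`. -/
noncomputable def subst : reesAlgebra I →+* K :=
  (eval₂RingHom ((algebraMap R K).comp φ.toRingHom) (IsLocalization.Away.invSelf (φ (a : A)))).comp
    (reesAlgebra I).val.toRingHom

theorem subst_apply (p : reesAlgebra I) {n : ℕ} {c : A} (hp : (p : A[X]) = monomial n c) :
    subst I φ a p = algebraMap R K (φ c) * IsLocalization.Away.invSelf (φ (a : A)) ^ n := by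
  show eval₂ _ _ (p : A[X]) = _
  rw [hp, eval₂_monomial]
  rfl

theorem subst_self : subst I φ a (deg1 I a) = 1 := by
  rw [subst_apply I φ a (deg1 I a) rfl, pow_one]
  exact IsLocalization.Away.mul_invSelf _

theorem mem_affineAlgebra {n : ℕ} {c : A} (hc : c ∈ I ^ n) :
    algebraMap R K (φ c) * IsLocalization.Away.invSelf (φ (a : A)) ^ n ∈
      BlowUp.affineAlgebra R (I.map φ.toRingHom) (φ (a : A)) := by
  induction n generalizing c with
  | zero => rw [pow_zero, mul_one]; exact Subalgebra.algebraMap_mem _ _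
  | succ n ih =>
    rw [pow_succ'] at hc
    refine Submodule.smul_induction_on hc (fun x hx y hy => ?_) (fun x y hx hy => ?_)
    · rw [smul_eq_mul, map_mul, map_mul, pow_succ', mul_mul_mul_comm]
      refine Subalgebra.mul_mem _ ?_ (ih hy)
      have h := ProjLib.frac_mem_affineAlgebra (π := φ (a : A)) (Ideal.mem_map_of_mem φ.toRingHom hx)
      convert h using 1
      refine (IsLocalization.eq_mk'_iff_mul_eq).2 ?_
      rw [mul_assoc, mul_comm (IsLocalization.Away.invSelf _), IsLocalization.Away.mul_invSelf, mul_one]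
      rfl
    · rw [map_add, map_add, add_mul]
      exact Subalgebra.add_mem _ hx hy

/-- The comparison map. -/
noncomputable def theta : Away (Rees.deg (reesAlgebra I)) (deg1 I a) →+* K :=
  (IsLocalization.Away.lift (S := Localization.Away (deg1 I a)) (deg1 I a) (g := subst I φ a)
    (by rw [subst_self]; exact isUnit_one)).comp
    (algebraMap (Away (Rees.deg (reesAlgebra I)) (deg1 I a)) (Localization.Away (deg1 I a)))

theorem theta_mk (n : ℕ) (p : reesAlgebra I) (hp : p ∈ Rees.deg (reesAlgebra I) (n • 1)) :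
    theta I φ a (Away.mk _ (deg1_mem I a) n p hp) = subst I φ a p := by
  show IsLocalization.Away.lift (S := Localization.Away (deg1 I a)) (deg1 I a) (g := subst I φ a)
    (by rw [subst_self]; exact isUnit_one) (Away.mk _ (deg1_mem I a) n p hp).val = _
  rw [Away.val_mk, Localization.mk_eq_mk', IsLocalization.Away.lift, IsLocalization.lift_mk'_spec]
  show subst I φ a p = subst I φ a (deg1 I a ^ n) * subst I φ a p
  rw [map_pow, subst_self, one_pow, one_mul]

theorem theta_fromZero (p : Rees.deg (reesAlgebra I) 0) :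
    theta I φ a (fromZeroRingHom (Rees.deg (reesAlgebra I)) _ p) = subst I φ a p.1 := by
  have h : fromZeroRingHom (Rees.deg (reesAlgebra I)) (Submonoid.powers (deg1 I a)) p =
      Away.mk _ (deg1_mem I a) 0 p.1 (by rw [zero_smul]; exact p.2) := by
    ext
    rw [Away.val_mk]
    show Localization.mk p.1 _ = _
    congr 1
    all_goals exact Subtype.ext (pow_zero _).symm
  rw [h, theta_mk]

theorem theta_injective : Function.Injective (theta I φ a) := by
  rw [injective_iff_map_eq_zero]
  intro z hz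
  obtain ⟨n, p, hp, rfl⟩ := Away.mk_surjective (Rees.deg (reesAlgebra I)) (deg1_mem I a) z
  have hp' := eq_monomial I p (show p ∈ Rees.deg (reesAlgebra I) n by simpa using hp)
  rw [theta_mk, subst_apply I φ a p hp'] at hz
  have hu : IsUnit (IsLocalization.Away.invSelf (S := K) (φ (a : A))) :=
    IsUnit.of_mul_eq_one _ ((mul_comm _ _).trans (IsLocalization.Away.mul_invSelf _))
  rw [(hu.pow n).mul_left_eq_zero, IsLocalization.map_eq_zero_iff (Submonoid.powers (φ (a : A)))] at hz
  obtain ⟨⟨_, m, rfl⟩, hm⟩ := hz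
  have hm' : (a : A) ^ m * (p : A[X]).coeff n = 0 := φ.injective (by rw [map_zero, map_mul, map_pow]; exact hm)
  ext
  rw [Away.val_mk, HomogeneousLocalization.val_zero, Localization.mk_eq_mk', IsLocalization.mk'_eq_zero_iff]
  refine ⟨⟨deg1 I a ^ m, m, rfl⟩, Subtype.ext ?_⟩
  show (monomial 1 (a : A)) ^ m * (p : A[X]) = 0
  rw [hp', monomial_pow, monomial_mul_monomial, hm', monomial_zero_right]

theorem theta_range :
    Set.range (theta I φ a) = (BlowUp.affineAlgebra R (I.map φ.toRingHom) (φ (a : A)) : Set K) := by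
  refine le_antisymm ?_ fun z hz => ?_
  · rintro _ ⟨z, rfl⟩
    obtain ⟨n, p, hp, rfl⟩ := Away.mk_surjective (Rees.deg (reesAlgebra I)) (deg1_mem I a) z
    have hp' := eq_monomial I p (show p ∈ Rees.deg (reesAlgebra I) n by simpa using hp)
    rw [theta_mk, subst_apply I φ a p hp']
    exact mem_affineAlgebra I φ a (p.2 n)
  · change z ∈ BlowUp.affineAlgebra R (I.map φ.toRingHom) (φ (a : A)) at hz
    unfold BlowUp.affineAlgebra at hz
    induction hz using Algebra.adjoin_induction with
    | mem z hz =>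
      obtain ⟨x', hx', rfl⟩ := hz
      obtain ⟨x, hx, rfl⟩ := (Ideal.mem_map_iff_of_surjective φ.toRingHom φ.surjective).1 hx'
      refine ⟨Away.mk _ (deg1_mem I a) 1 (deg1 I ⟨x, hx⟩) (by simpa using deg1_mem I ⟨x, hx⟩), ?_⟩
      rw [theta_mk, subst_apply I φ a (deg1 I ⟨x, hx⟩) rfl, pow_one]
      refine (IsLocalization.eq_mk'_iff_mul_eq).2 ?_
      rw [mul_assoc, mul_comm (IsLocalization.Away.invSelf _), IsLocalization.Away.mul_invSelf, mul_one]
      rfl
    | algebraMap r =>
      refine ⟨fromZeroRingHom (Rees.deg (reesAlgebra I)) _ (algebraMap A _ (φ.symm r)), ?_⟩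
      rw [theta_fromZero, subst_apply I φ a _ (n := 0) (c := φ.symm r) rfl, pow_zero, mul_one, φ.apply_symm_apply]
    | add x y _ _ hx hy =>
      obtain ⟨u, rfl⟩ := hx; obtain ⟨v, rfl⟩ := hy
      exact ⟨u + v, map_add _ _ _⟩
    | mul x y _ _ hx hy =>
      obtain ⟨u, rfl⟩ := hx; obtain ⟨v, rfl⟩ := hy
      exact ⟨u * v, map_mul _ _ _⟩

/-- The degree zero part of the localised Rees algebra is the affine blow-up algebra. -/
theorem exists_equiv (J : Ideal R) (hJ : J = I.map φ.toRingHom) :
    ∃ e : Away (Rees.deg (reesAlgebra I)) (deg1 I a) ≃+* BlowUp.affineAlgebra R J (φ (a : A)),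
      (∀ r : A, e (fromZeroRingHom (Rees.deg (reesAlgebra I)) _ (algebraMap A _ r)) =
        algebraMap R _ (φ r)) ∧
      ∀ (c : I), (e (Away.isLocalizationElem (deg1_mem I a) (deg1_mem I c)) : K) =
        IsLocalization.mk' K (φ (c : A)) ⟨φ (a : A), Submonoid.mem_powers _⟩ := by
  subst hJ
  let θ : Away (Rees.deg (reesAlgebra I)) (deg1 I a) →+* BlowUp.affineAlgebra R (I.map φ.toRingHom) (φ (a : A)) :=
    (theta I φ a).codRestrict _ fun z => (theta_range I φ a).le ⟨z, rfl⟩
  refine ⟨RingEquiv.ofBijective θ ⟨fun x y h => theta_injective I φ a (congrArg Subtype.val h), fun y => ?_⟩,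
    fun r => Subtype.ext ?_, fun c => ?_⟩
  · obtain ⟨x, hx⟩ := (theta_range I φ a).ge y.2
    exact ⟨x, Subtype.ext hx⟩
  · show theta I φ a _ = algebraMap R K (φ r)
    rw [theta_fromZero, subst_apply I φ a _ (n := 0) (c := r) rfl, pow_zero, mul_one]
  · show theta I φ a _ = _
    rw [Away.isLocalizationElem, theta_mk, subst_apply I φ a _ (n := 1) (c := (c : A)) (by rw [pow_one]; rfl),
      pow_one]
    refine (IsLocalization.eq_mk'_iff_mul_eq).2 ?_
    rw [mul_assoc, mul_comm (IsLocalization.Away.invSelf _), IsLocalization.Away.mul_invSelf, mul_one]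

theorem adjoin_deg1 :
    Algebra.adjoin (Rees.deg (reesAlgebra I) 0) (Set.range (deg1 I)) = ⊤ := by
  refine top_le_iff.1 fun p _ => ?_
  suffices h : ∀ q : A[X], q ∈ Algebra.adjoin A (Submodule.map (monomial 1 : A →ₗ[A] A[X]) I : Set A[X]) →
      ∃ p ∈ Algebra.adjoin (Rees.deg (reesAlgebra I) 0) (Set.range (deg1 I)), (p : A[X]) = q by
    obtain ⟨p', hp', he⟩ := h p (by rw [adjoin_monomial_eq_reesAlgebra]; exact p.2)
    rwa [Subtype.ext he] at hp'
  intro q hq
  induction hq using Algebra.adjoin_induction with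
  | mem q hq =>
    obtain ⟨x, hx, rfl⟩ := hq
    exact ⟨deg1 I ⟨x, hx⟩, Algebra.subset_adjoin ⟨⟨x, hx⟩, rfl⟩, rfl⟩
  | algebraMap r =>
    exact ⟨(algebraMap A (Rees.deg (reesAlgebra I) 0) r).1,
      Subalgebra.algebraMap_mem _ (algebraMap A (Rees.deg (reesAlgebra I) 0) r), rfl⟩
  | add x y _ _ hx hy =>
    obtain ⟨x', hx', rfl⟩ := hx; obtain ⟨y', hy', rfl⟩ := hy
    exact ⟨x' + y', add_mem hx' hy', rfl⟩
  | mul x y _ _ hx hy =>
    obtain ⟨x', hx', rfl⟩ := hx; obtain ⟨y', hy', rfl⟩ := hy
    exact ⟨x' * y', mul_mem hx' hy', rfl⟩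

end Groth.Agent.BlowRees8
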