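import Mathlib
import Groth.Prelude.Def_ega3
import Groth.Agent.BlowRees8.Algebra
import Groth.Agent.BlowUpLib.Proper
import Groth.Agent.BlowUpLib.AffineExt

/-!
# `Proj` of the Rees algebra is the blow-up
-/

set_option autoImplicit false
set_option backward.isDefEq.respectTransparency false
set_option backward.isDefEq.respectTransparency.types false

universe u

open CategoryTheory Limits AlgebraicGeometry TopologicalSpace
open HomogeneousLocalization Groth.Agent.BlowUpLib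
open Groth.Agent.FlatMor12.BlowUpDisjoint (isEffCartierIdeal_comap isEffCartierIdeal_of_cover)

namespace Groth.Agent.BlowRees8

theorem isBlowUp_proj_rees (A : Type u) [CommRing A] (I : Ideal A) :
    BlowUp.IsBlowUp (Proj (Rees.deg (reesAlgebra I)) ↘ Spec (CommRingCat.of A))
      (Scheme.IdealSheafData.ofIdealTop (I.map (Scheme.ΓSpecIso (CommRingCat.of A)).inv.hom)) := by
  let S : Scheme.{u} := Spec (CommRingCat.of A)
  let U : S.affineOpens := ⟨⊤, isAffineOpen_top S⟩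
  let ε := Scheme.ΓSpecIso (CommRingCat.of A)
  let φ : A ≃+* Γ(S, U.1) := ε.symm.commRingCatIsoToRingEquiv
  let 𝓘 : S.IdealSheafData := Scheme.IdealSheafData.ofIdealTop (I.map ε.inv.hom)
  let 𝒜 := Rees.deg (reesAlgebra I)
  let P : Scheme.{u} := Proj 𝒜
  let b : P ⟶ S := P ↘ Spec (CommRingCat.of A)
  have hideal : 𝓘.ideal U = I.map φ.toRingHom := by
    show (Scheme.IdealSheafData.ofIdealTop _).ideal _ = _
    rw [Scheme.IdealSheafData.ofIdealTop_ideal]
    show (I.map ε.inv.hom).map (S.presheaf.map (homOfLE le_top).op).hom = _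
    rw [Subsingleton.elim (homOfLE le_top).op (𝟙 (Opposite.op (⊤ : S.Opens))),
      S.presheaf.map_id]
    exact Ideal.map_id _
  have hmem : ∀ a : I, φ (a : A) ∈ 𝓘.ideal U := fun a => hideal ▸ Ideal.mem_map_of_mem φ.toRingHom a.2
  choose e he hel using fun a : I => exists_equiv I φ a (𝓘.ideal U) hideal
  let i : I → Idx 𝓘 := fun a => ⟨U, φ (a : A), hmem a⟩
  let σ : ∀ a : I, C 𝓘 (i a) ⟶ Spec (CommRingCat.of (Away 𝒜 (deg1 I a))) := fun a =>
    Spec.map (e a).toCommRingCatIso.hom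
  let j : ∀ a : I, C 𝓘 (i a) ⟶ P := fun a => σ a ≫ Proj.awayι 𝒜 (deg1 I a) (deg1_mem I a) one_pos
  haveI : ∀ a, IsIso (σ a) := fun a => inferInstanceAs (IsIso (Spec.map _))
  haveI : ∀ a, IsOpenImmersion (j a) := fun a => inferInstance
  have hjr : ∀ a, (j a).opensRange = Proj.basicOpen 𝒜 (deg1 I a) := fun a =>
    (Scheme.Hom.opensRange_comp_of_isIso _ _).trans (Proj.opensRange_awayι _ _ _ _)
  have hjb : ∀ a, j a ≫ b = cm 𝓘 (i a) := fun a => by
    show (Spec.map _ ≫ Proj.awayι 𝒜 (deg1 I a) _ _) ≫ Proj.toSpecZero 𝒜 ≫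
      Spec.map (CommRingCat.ofHom (algebraMap A (𝒜 0))) = chartMap 𝓘 U (φ (a : A))
    rw [Category.assoc, Proj.awayι_toSpecZero_assoc, chartMap, IsAffineOpen.fromSpec_top,
      Scheme.isoSpec_Spec_inv, ← Spec.map_comp, ← Spec.map_comp, ← Spec.map_comp]
    congr 1
    ext r
    exact congrArg Subtype.val (he a r)
  have hcov : ∀ x : P, ∃ a, x ∈ (j a).opensRange := fun x => by
    have h := Proj.iSup_basicOpen_eq_top' 𝒜 (deg1 I) (fun a => ⟨1, deg1_mem I a⟩) (adjoin_deg1 I)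
    obtain ⟨a, ha⟩ := Opens.mem_iSup.1 (h.ge (show x ∈ (⊤ : P.Opens) from trivial))
    exact ⟨a, (hjr a).ge ha⟩
  have hgood : BlowUp.IsEffCartierIdeal (𝓘.comap b) := by
    refine isEffCartierIdeal_of_cover _ fun x => ?_
    obtain ⟨a, y, hy⟩ := hcov x
    refine ⟨_, j a, inferInstance, ⟨y, hy⟩, ?_⟩
    rw [← Scheme.IdealSheafData.comap_comp, hjb]
    exact good_cm (i a)
  -- the loci of the generators
  have hloc : ∀ a : I, locus 𝓘 b U (φ (a : A)) = (j a).opensRange := fun a => by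
    refine le_antisymm (fun x hx => ?_) ?_
    · obtain ⟨c, y, hy⟩ := hcov x
      have hy' : y ∈ W 𝓘 (i c) (i a) := by
        show y ∈ locus 𝓘 (cm 𝓘 (i c)) U (φ (a : A))
        rw [← hjb c, ← preimage_locus (hmem a) b hgood (j c) (good_comp hgood _)]
        show (j c) y ∈ locus 𝓘 b U (φ (a : A))
        rw [hy]; exact hx
      have hW := W_eq_basicOpen (I := 𝓘) (U := U) (hmem c) (hmem a)
      replace hy' := hW.le hy'
      rw [hjr, ← hy]
      show (σ c) y ∈ Proj.awayι 𝒜 (deg1 I c) (deg1_mem I c) one_pos ⁻¹ᵁ Proj.basicOpen 𝒜 (deg1 I a)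
      rw [Proj.awayι_preimage_basicOpen 𝒜 (deg1_mem I c) one_pos (deg1_mem I a) one_pos]
      show e c (Away.isLocalizationElem (deg1_mem I c) (deg1_mem I a)) ∉ y.asIdeal
      convert hy' using 2
      exact Subtype.ext (hel c a)
    · rintro _ ⟨y, rfl⟩
      show y ∈ j a ⁻¹ᵁ locus 𝓘 b U (φ (a : A))
      rw [preimage_locus (hmem a) b hgood (j a) (good_comp hgood _), hjb]
      exact (locus_chartMap (I := 𝓘) (hmem a)).ge trivial
  have hB := isBlowUp_blowUpMap (I := 𝓘)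
  obtain ⟨k, hk, -⟩ := hB.2 P b hgood
  have hjk : ∀ a, j a ≫ k = chartι (i a) := fun a => by
    refine (hB.2 _ (cm 𝓘 (i a)) (good_cm (i a))).unique ?_ (ι_blowUpMap (i a))
    show (j a ≫ k) ≫ blowUpMap 𝓘 = cm 𝓘 (i a)
    rw [Category.assoc, hk, hjb]
  let V : I → (B 𝓘).Opens := fun a => locus 𝓘 (blowUpMap 𝓘) U (φ (a : A))
  have hV : ∀ a : I, V a = (chartι (i a)).opensRange := fun a => by
    refine le_antisymm ?_ ?_
    · have h := preimage_opensRange_ι (𝟙 (B 𝓘)) (i a) (by rw [Category.id_comp]; exact good_blowUpMap)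
      simp only [Category.id_comp] at h
      exact h
    · rintro _ ⟨y, rfl⟩
      show y ∈ chartι (i a) ⁻¹ᵁ locus 𝓘 (blowUpMap 𝓘) U (φ (a : A))
      rw [preimage_locus (hmem a) _ good_blowUpMap (chartι (i a)) (by rw [ι_blowUpMap]; exact good_cm (i a)),
        ι_blowUpMap]
      exact (locus_chartMap (I := 𝓘) (hmem a)).ge trivial
  have hVtop : ⨆ a, V a = ⊤ := top_le_iff.1 fun x _ => by
    obtain ⟨a', ha', hx⟩ := exists_mem_locus (blowUpMap 𝓘) good_blowUpMap (y := x) (U := U) trivial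
      (𝓘.ideal U : Set _) (Ideal.span_eq _)
    obtain ⟨a, ha, rfl⟩ := (Ideal.mem_map_iff_of_surjective φ.toRingHom φ.surjective).1 (hideal.le ha')
    exact Opens.mem_iSup.2 ⟨⟨a, ha⟩, hx⟩
  haveI : IsIso k := by
    rw [← MorphismProperty.isomorphisms.iff]
    refine (IsZariskiLocalAtTarget.iff_of_iSup_eq_top (P := MorphismProperty.isomorphisms Scheme.{u})
      V hVtop).2 fun a => ?_
    rw [MorphismProperty.isomorphisms.iff]
    have hpre : k ⁻¹ᵁ V a = (j a).opensRange := by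
      rw [preimage_locus (hmem a) _ good_blowUpMap k (by rw [hk]; exact hgood), hk, hloc]
    let j' : C 𝓘 (i a) ⟶ (k ⁻¹ᵁ V a : P.Opens).toScheme :=
      IsOpenImmersion.lift (k ⁻¹ᵁ V a).ι (j a) (by rw [Scheme.Opens.range_ι, hpre]; exact le_rfl)
    have hj' : j' ≫ (k ⁻¹ᵁ V a).ι = j a := IsOpenImmersion.lift_fac _ _ _
    let c' : C 𝓘 (i a) ⟶ (V a).toScheme :=
      IsOpenImmersion.lift (V a).ι (chartι (i a)) (by rw [Scheme.Opens.range_ι, hV]; exact le_rfl)
    have hc' : c' ≫ (V a).ι = chartι (i a) := IsOpenImmersion.lift_fac _ _ _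
    have hI1 : IsIso j' := (IsOpenImmersion.isoOfRangeEq (j a) (k ⁻¹ᵁ V a).ι
      (by rw [Scheme.Opens.range_ι, hpre]; rfl)).isIso_hom
    have hI2 : IsIso c' := (IsOpenImmersion.isoOfRangeEq (chartι (i a)) (V a).ι
      (by rw [Scheme.Opens.range_ι, hV]; rfl)).isIso_hom
    have hkey : j' ≫ k ∣_ V a = c' := by
      rw [← cancel_mono (V a).ι, Category.assoc, morphismRestrict_ι, reassoc_of% hj', hjk, hc']
    rw [(IsIso.eq_inv_comp j').2 hkey]
    infer_instance
  show BlowUp.IsBlowUp b 𝓘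
  rw [← hk]
  exact isBlowUp_iso_comp k hB

end Groth.Agent.BlowRees8
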